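import Groth.Agent.Et18.FiniteEtaleCard
import Groth.Agent.Props12.FinLocFree
import Groth.Prelude
import Mathlib.AlgebraicGeometry.Morphisms.FlatMono

/-!
# Sections of finite étale morphisms over connected bases
-/

set_option autoImplicit false
set_option backward.isDefEq.respectTransparency.types false

universe u

open CategoryTheory CategoryTheory.Limits AlgebraicGeometry TopologicalSpace

namespace Groth.Agent.FEtSect

variable {P T : Scheme.{u}} (p : P ⟶ T)

/-- The sections of a morphism. -/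
abbrev Sect : Type u := {s : T ⟶ P // s ≫ p = 𝟙 T}

/-- Morphisms over the base into `f` are the sections of its pullback. -/
noncomputable def overHomEquiv {X Y X' : Scheme.{u}} (f : X ⟶ Y) (φ : X' ⟶ Y) :
    (Over.mk φ ⟶ Over.mk f) ≃ Sect (pullback.snd f φ) where
  toFun a := ⟨pullback.lift a.left (𝟙 _) (by simpa using Over.w a), pullback.lift_snd _ _ _⟩
  invFun s := Over.homMk (s.1 ≫ pullback.fst f φ) (by
    show (s.1 ≫ pullback.fst f φ) ≫ f = φ
    rw [Category.assoc, pullback.condition, ← Category.assoc, s.2, Category.id_comp])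
  left_inv a := by ext; exact pullback.lift_fst _ _ _
  right_inv s := Subtype.ext (pullback.hom_ext (pullback.lift_fst _ _ _)
    ((pullback.lift_snd _ _ _).trans s.2.symm))

variable {p}

theorem isOpenImmersion_sect [Etale p] (s : Sect p) : IsOpenImmersion s.1 := by
  haveI : Etale (s.1 ≫ p) := by rw [s.2]; infer_instance
  haveI : Etale s.1 := Etale.of_comp s.1 p
  haveI : Mono s.1 := SplitMono.mono ⟨p, s.2⟩
  exact IsOpenImmersion.of_flat_of_mono s.1

theorem isClosed_range_sect [IsSeparated p] (s : Sect p) : IsClosed (Set.range s.1) := by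
  haveI : IsClosedImmersion (s.1 ≫ p) := by rw [s.2]; infer_instance
  haveI : IsClosedImmersion s.1 := IsClosedImmersion.of_comp s.1 p
  exact s.1.isClosedEmbedding.isClosed_range

theorem range_subset [Etale p] [IsSeparated p] [PreconnectedSpace T] {s s' : Sect p} {t : T}
    (h : s.1 t = s'.1 t) : Set.range s.1 ⊆ Set.range s'.1 := by
  have := isOpenImmersion_sect s'
  have h1 : IsClopen (s.1 ⁻¹' Set.range s'.1) :=
    ⟨(isClosed_range_sect s').preimage s.1.continuous, s'.1.isOpenEmbedding.isOpen_range.preimage s.1.continuous⟩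
  rcases isClopen_iff.1 h1 with h2 | h2
  · exact absurd (show t ∈ s.1 ⁻¹' Set.range s'.1 from ⟨t, h.symm⟩) (by rw [h2]; exact fun h => h)
  · rintro _ ⟨x, rfl⟩
    exact (h2.symm ▸ Set.mem_univ x : x ∈ s.1 ⁻¹' Set.range s'.1)

/-- Sections that agree at one point agree. -/
theorem sect_ext [Etale p] [IsSeparated p] [PreconnectedSpace T] {s s' : Sect p} {t : T}
    (h : s.1 t = s'.1 t) : s = s' := by
  have := isOpenImmersion_sect s'
  refine Subtype.ext ?_
  have h1 := IsOpenImmersion.lift_fac s'.1 s.1 (range_subset h)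
  have h2 := congrArg (· ≫ p) h1
  simp only [Category.assoc, s.2, s'.2, Category.comp_id] at h2
  rw [← h1, h2, Category.id_comp]

/-- Evaluation of sections at a geometric point. -/
noncomputable def evalAt {Ω : Type u} [Field Ω] (η : Spec (CommRingCat.of Ω) ⟶ T) (s : Sect p) : Et18.PointLift p η :=
  ⟨η ≫ s.1, by rw [Category.assoc, s.2, Category.comp_id]⟩

theorem evalAt_injective [Etale p] [IsSeparated p] [PreconnectedSpace T] {Ω : Type u} [Field Ω]
    (η : Spec (CommRingCat.of Ω) ⟶ T) : Function.Injective (evalAt (p := p) η) := fun s s' h => by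
  have h1 := congrArg (fun a => a.1 (IsLocalRing.closedPoint Ω)) h
  exact sect_ext h1

/-- A geometric point over a point. -/
theorem exists_geomPoint {Z : Scheme.{u}} (z : Z) :
    ∃ (Ω : Type u) (_ : Field Ω) (_ : IsSepClosed Ω) (η : Spec (CommRingCat.of Ω) ⟶ Z),
      ∀ x, η x = z :=
  ⟨SeparableClosure (Z.residueField z), inferInstance, inferInstance,
    Spec.map (CommRingCat.ofHom (algebraMap (Z.residueField z) _)) ≫ Z.fromSpecResidueField z,
    fun _ => by rw [Scheme.Hom.comp_apply, Scheme.fromSpecResidueField_apply]⟩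

variable [Etale p] [IsFinite p] [PreconnectedSpace T] {n : ℕ} (hn : ∀ t, p.finrank t = n)
include hn

theorem finite_card_le [Nonempty T] : Finite (Sect p) ∧ Nat.card (Sect p) ≤ n := by
  obtain ⟨Ω, _, _, η, -⟩ := exists_geomPoint (Classical.arbitrary T)
  obtain ⟨hf, hc, -⟩ := Et18.card_pointLift p η
  exact ⟨Finite.of_injective _ (evalAt_injective η),
    (Nat.card_le_card_of_injective _ (evalAt_injective η)).trans (hc.trans (hn _)).le⟩

theorem exists_split [Nonempty T] (h : Nat.card (Sect p) = n) :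
    ∃ e : P ≅ ∐ fun _ : Fin n => T, e.hom ≫ Sigma.desc (fun _ : Fin n => 𝟙 T) = p := by
  classical
  haveI := (finite_card_le hn).1
  let σ : Fin n ≃ Sect p := ((Finite.equivFin _).trans (finCongr h)).symm
  haveI : ∀ i, IsOpenImmersion (σ i).1 := fun i => isOpenImmersion_sect (σ i)
  obtain ⟨hcol⟩ := nonempty_isColimit_cofanMk_of (X := fun _ : Fin n => T) (fun i => (σ i).1) (by
      refine eq_top_iff.2 fun z _ => ?_
      obtain ⟨Ω, _, _, ζ, hζ⟩ := exists_geomPoint z
      obtain ⟨hf, hc, -⟩ := Et18.card_pointLift p (ζ ≫ p)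
      have hb := (evalAt_injective (p := p) (ζ ≫ p)).bijective_of_nat_card_le (hc.trans (hn _) |>.trans h.symm).le
      obtain ⟨s, hs⟩ := hb.2 ⟨ζ, rfl⟩
      refine Opens.mem_iSup.2 ⟨σ.symm s, (ζ ≫ p) (IsLocalRing.closedPoint Ω), ?_⟩
      rw [σ.apply_symm_apply, ← Scheme.Hom.comp_apply, show (ζ ≫ p) ≫ s.1 = ζ from congrArg Subtype.val hs]
      exact hζ _) (by
      intro i j hij
      rw [Function.onFun, disjoint_iff]
      refine Opens.ext (Set.eq_empty_iff_forall_notMem.2 ?_)
      rintro z ⟨⟨a, ha⟩, ⟨b, hb⟩⟩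
      have ha' : p z = a := by rw [← ha, ← Scheme.Hom.comp_apply, (σ i).2]; rfl
      have hb' : p z = b := by rw [← hb, ← Scheme.Hom.comp_apply, (σ j).2]; rfl
      subst ha'; subst hb'
      exact hij (σ.injective (sect_ext (ha.trans hb.symm))))
  refine ⟨(hcol.coconePointUniqueUpToIso (colimit.isColimit _)), hcol.hom_ext fun ⟨i⟩ => ?_⟩
  rw [← Category.assoc, hcol.comp_coconePointUniqueUpToIso_hom (colimit.isColimit _) ⟨i⟩]
  exact (Sigma.ι_desc _ i).trans (σ i).2.symm

theorem card_of_split [Nonempty T] (e : P ≅ ∐ fun _ : Fin n => T)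
    (he : e.hom ≫ Sigma.desc (fun _ : Fin n => 𝟙 T) = p) : Nat.card (Sect p) = n := by
  haveI := (finite_card_le hn).1
  refine (finite_card_le hn).2.antisymm ?_
  let g : Fin n → Sect p := fun i => ⟨Sigma.ι (fun _ : Fin n => T) i ≫ e.inv, by
    rw [← he, Category.assoc, e.inv_hom_id_assoc, Sigma.ι_desc]⟩
  have hg : Function.Injective g := fun i j h => by
    by_contra hne
    have h1 : Sigma.ι (fun _ : Fin n => T) i = Sigma.ι (fun _ : Fin n => T) j := by
      rw [← cancel_mono e.inv]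
      exact congrArg Subtype.val h
    have hd := disjoint_opensRange_sigmaι (fun _ : Fin n => T) i j hne
    let t := Classical.arbitrary T
    have hmem : Sigma.ι (fun _ : Fin n => T) j t ∈ (⊥ : (∐ fun _ : Fin n => T).Opens) :=
      hd.le_bot ⟨⟨t, by rw [h1]⟩, ⟨t, rfl⟩⟩
    exact hmem
  exact le_of_eq_of_le (Nat.card_eq_fintype_card.trans (Fintype.card_fin n)).symm (Nat.card_le_card_of_injective g hg)

end Groth.Agent.FEtSect

namespace Groth.Agent.FEtSect

/-- The rank of a finite flat morphism with locally free direct image. -/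
theorem finrank_of_rank {X Y : Scheme.{u}} (f : X ⟶ Y) [IsFinite f] [Flat f] {n : ℕ}
    (h : FlatMod.IsFinLocFreeOfRank n ((Scheme.Modules.pushforward f).obj (Coh.structureModule X))) (y : Y) :
    f.finrank y = n := by
  obtain ⟨U, hyU, ⟨e⟩⟩ := h y
  obtain ⟨W', hW', hyW, hWU⟩ := Opens.isBasis_iff_nbhd.mp Y.isBasis_affineOpens hyU
  let W : Y.Opens := W'
  have hW : IsAffineOpen W := hW'
  obtain ⟨b⟩ := Props12.exists_basis_sections e hWU
  haveI : IsAffine W.toScheme := hW
  have h1 : f.finrank (W.ι ⟨y, hyW⟩) = (f ∣_ W).finrank ⟨y, hyW⟩ :=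
    (Scheme.Hom.finrank_of_isPullback _ _ _ _ (isPullback_morphismRestrict f W).flip _).symm
  rw [show y = W.ι ⟨y, hyW⟩ from rfl, h1]
  have hpre : IsAffineOpen (f ⁻¹ᵁ W) := hW.preimage f
  have hfac : f ∣_ W = hpre.isoSpec.hom ≫ Spec.map (f.app W) ≫ hW.isoSpec.inv := by
    rw [← cancel_mono W.ι, morphismRestrict_ι, Category.assoc, Category.assoc, IsAffineOpen.isoSpec_inv_ι,
      Scheme.Hom.app_eq_appLE, IsAffineOpen.SpecMap_appLE_fromSpec f hW hpre, ← Category.assoc]
    congr 1
    rw [← IsAffineOpen.isoSpec_inv_ι, Iso.hom_inv_id_assoc]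
  letI := (f.app W).hom.toAlgebra
  have hfin : (f.app W).hom.Finite := IsFinite.finite_app f W hW
  have hfl : (f.app W).hom.Flat := by
    rw [Scheme.Hom.app_eq_appLE]
    exact Flat.flat_appLE f hW hpre le_rfl
  haveI : IsFinite (Spec.map (f.app W)) := (IsFinite.SpecMap_iff _).2 hfin
  haveI : Flat (Spec.map (f.app W)) := Flat.SpecMap_iff.2 hfl
  haveI : Module.Finite Γ(Y, W) Γ(X, f ⁻¹ᵁ W) := hfin
  haveI : Module.Flat Γ(Y, W) Γ(X, f ⁻¹ᵁ W) := hfl
  have h2 : (f ∣_ W).finrank ⟨y, hyW⟩ = (Spec.map (f.app W)).finrank (hW.isoSpec.hom ⟨y, hyW⟩) := by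
    rw [hfac, Scheme.Hom.finrank_comp_left_of_isIso]
    exact (Scheme.Hom.finrank_of_isPullback (𝟙 _) _ (Spec.map (f.app W)) hW.isoSpec.hom
      (IsPullback.of_horiz_isIso ⟨by simp⟩) _)
  rw [h2]
  refine (Scheme.Hom.finrank_SpecMap_algebraMap Γ(Y, W) Γ(X, f ⁻¹ᵁ W) _).trans ?_
  haveI : Nontrivial Γ(Y, W) := (hW.primeIdealOf ⟨y, hyW⟩).nontrivial
  let b' : Module.Basis (Fin n) Γ(Y, W) Γ(X, f ⁻¹ᵁ W) := b.map
    { toFun := fun m => m
      map_add' := fun _ _ => rfl
      map_smul' := fun _ _ => rfl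
      invFun := fun m => m }
  haveI := Module.Free.of_basis b'
  rw [Module.rankAtStalk_eq_finrank_of_free]
  exact (Module.finrank_eq_card_basis b').trans (Fintype.card_fin n)

end Groth.Agent.FEtSect
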